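import Mathlib
import Cfsg.Agent.H2.BG14.I
import Cfsg.Agent.H2.BG12.G
import Cfsg.Agent.S0126

/-!
# B&G Section 15 (helper2), part A: Lemma 15.8 (S1438, first half): the centralizer in `M` of a
Hall subgroup of `M_σ`
-/

set_option autoImplicit false
set_option linter.unusedVariables false
set_option linter.unusedSectionVars false
set_option linter.style.haveILetI false
set_option maxHeartbeats 1000000

open scoped commutatorElement Pointwise

namespace Cfsg.Agent.H2.BG15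

open Cfsg Cfsg.Agent.Lib.Helper8.BGTen Cfsg.Agent.H2.BG11 Cfsg.Agent.H2.BG14
open Cfsg.Agent.Lib.Helper7 (IsSylowIn exists_isSylowIn_ge)

universe u

variable {G : Type u} [Group G] [Finite G]

/-- an element of `M` of prime order `r ∉ σ(M)` centralizing a nontrivial Sylow subgroup of `M_σ`
has `r ∈ τ₂(M)` -/
theorem mem_tau2_of_centralizes_sylow (hG : Cfsg.IsMinSimpleOddOrder G) {M : Subgroup G}
    (hM : IsCoatom M) {p : ℕ} [hp : Fact p.Prime] {S : Subgroup G}
    (hS : IsSylowIn p S (Cfsg.sigmaCore M)) (hS1 : S ≠ ⊥) {x : G} (hxM : x ∈ M) {r : ℕ}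
    (hr : r.Prime) (hox : orderOf x = r) (hrσ : r ∉ Cfsg.sigma M)
    (hxS : ∀ s ∈ S, x * s = s * x) : r ∈ Cfsg.tau2 M := by
  haveI : Fact r.Prime := ⟨hr⟩
  have h2 : Cfsg.PRankLE r 2 ↥M := by
    by_contra h2
    exact hrσ (alpha_subset_sigma hG (Cfsg.Agent.H2.BG11.uniq hG) hM ⟨hr, h2⟩)
  refine ⟨hr, hrσ, h2, ?_⟩
  intro h1
  have hx1 : x ≠ 1 := by
    intro h
    rw [h, orderOf_one] at hox
    exact hr.one_lt.ne hox
  -- `r ∈ κ(M)`
  have hTM : Subgroup.zpowers x ≤ M := by rw [Subgroup.zpowers_le]; exact hxM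
  have hTc : Nat.card ↥(Subgroup.zpowers x) = r := by rw [Nat.card_zpowers, hox]
  have hSC : S ≤ Cfsg.sigmaCore M ⊓ Subgroup.centralizer ((Subgroup.zpowers x : Subgroup G) : Set G) := by
    intro s hs
    refine Subgroup.mem_inf.mpr ⟨hS.1 hs, ?_⟩
    rw [Subgroup.mem_centralizer_iff]
    intro z hz
    obtain ⟨k, rfl⟩ := Subgroup.mem_zpowers_iff.mp hz
    exact ((Commute.zpow_left (show Commute x s from hxS s hs) k)).eq
  have hD : Cfsg.sigmaCore M ⊓ Subgroup.centralizer ((Subgroup.zpowers x : Subgroup G) : Set G) ≠ ⊥ := by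
    intro h0
    rw [h0, le_bot_iff] at hSC
    exact hS1 hSC
  have hκ : r ∈ Cfsg.kappa M := Cfsg.Agent.Lib.Helper4.BG14.mem_kappa_of_fixed hG hrσ h1 hTM hTc hD
  -- a Hall `κ(M)`-subgroup containing `x`
  have hsolv : Group.IsSolvable ↥M := hG.2.2.2 M hM.1
  obtain ⟨K, hK, -, hxK'⟩ := Cfsg.Agent.H1.coprime_hall_contain (⊥ : Subgroup G) M
    (Subgroup.zpowers x) (Cfsg.kappa M) bot_le
    (by rw [Subgroup.card_bot]; exact Nat.coprime_one_left _) hsolv hTM bot_le (fun q hq hd => by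
      rw [hTc] at hd
      rw [(Nat.prime_dvd_prime_iff_eq hq hr).mp hd]
      exact hκ)
  have hxK : x ∈ K := hxK' (Subgroup.mem_zpowers x)
  have hK1 : K ≠ ⊥ := by
    intro h0
    rw [h0, Subgroup.mem_bot] at hxK
    exact hx1 hxK
  have h30 := hyp1430 hG
  have h31 := hyp1431 hG
  have hSKs : S ≤ Ks M K := by
    show S ≤ Cfsg.sigmaCore M ⊓ Subgroup.centralizer (K : Set G)
    rw [← (h30 M hM K hK hK1).1 x hxK hx1]
    intro s hs
    refine Subgroup.mem_inf.mpr ⟨hS.1 hs, ?_⟩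
    rw [Subgroup.mem_centralizer_singleton_iff]
    exact (hxS s hs).symm
  have hpd : p ∣ Nat.card ↥(Ks M K) := by
    have h1 : p ∣ Nat.card ↥S := by
      obtain ⟨n, hn⟩ := hS.isPGroup.exists_card_eq
      rcases Nat.eq_zero_or_pos n with h0 | h0
      · exfalso
        rw [h0, pow_zero] at hn
        exact hS1 (Subgroup.card_eq_one.mp hn)
      · rw [hn]
        exact dvd_pow_self p h0.ne'
    exact h1.trans (Subgroup.card_dvd_of_le hSKs)
  obtain ⟨R, hR⟩ := hS.exists_sylow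
  have hRmap : (R : Subgroup ↥(Cfsg.sigmaCore M)).map (Cfsg.sigmaCore M).subtype = S := by
    rw [hR, Subgroup.map_subgroupOf_eq_of_le hS.1]
  have := ((h31 M hM K hK hK1).2.2.1 p hp.out hpd R).2.2
  rw [hRmap] at this
  exact this hSKs

/-- `N ⊴ M`, `C ≤ M` ⇒ `|C : C ∩ N|` divides `|M : N|` -/
theorem relIndex_dvd_relIndex_of_le_normalizer {N C M : Subgroup G} (hNM : N ≤ M)
    (hn : M ≤ Subgroup.normalizer (N : Set G)) (hCM : C ≤ M) : N.relIndex C ∣ N.relIndex M := by
  haveI : (N.subgroupOf M).Normal := (Subgroup.normal_subgroupOf_iff_le_normalizer hNM).mpr hn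
  have h1 := Subgroup.relIndex_dvd_index_of_normal (N.subgroupOf M) (C.subgroupOf M)
  rwa [Subgroup.relIndex_subgroupOf hCM] at h1

/-- every `p`-subgroup of a subgroup `X ≤ M` centralizing `H ≠ 1`, `H ≤ M_σ`, is cyclic when
`p ∈ τ₂(M)` -/
theorem isCyclic_of_pgroup_centralizing (hG : Cfsg.IsMinSimpleOddOrder G) {M : Subgroup G}
    (hM : IsCoatom M) {H : Subgroup G} (hH : H ≤ Cfsg.sigmaCore M) (hH1 : H ≠ ⊥)
    {p : ℕ} [hp : Fact p.Prime] (hpτ : p ∈ Cfsg.tau2 M) {Q : Subgroup G} (hQM : Q ≤ M)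
    (hQH : Q ≤ Subgroup.centralizer (H : Set G)) (hQp : IsPGroup p ↥Q) : IsCyclic ↥Q := by
  by_contra hnc
  have hQcard : 1 < Nat.card ↥Q := by
    by_contra hle
    push Not at hle
    have : Nat.card ↥Q = 1 := by
      have := Nat.card_pos (α := ↥Q); omega
    apply hnc
    rw [Subgroup.card_eq_one.1 this]
    infer_instance
  have hp2 : p ≠ 2 := Cfsg.Agent.Lib.Helper4.BGUniq.prime_ne_two hG hQp hQcard
  obtain ⟨W, -, hWel, hWcard⟩ := Cfsg.Agent.S0126.result hp2 hQp hnc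
  have hA : Cfsg.IsElementaryAbelian p (W.map Q.subtype) :=
    Cfsg.Agent.Lib.Helper4.BGUniq.isElementaryAbelian_map Q.subtype hWel
  have hAc : Nat.card ↥(W.map Q.subtype) = p ^ 2 := by
    rw [Subgroup.card_map_of_injective Q.subtype_injective, hWcard]
  have hAQ : W.map Q.subtype ≤ Q := Subgroup.map_subtype_le W
  have h17 := (Cfsg.Agent.S1417.result hG M hM p hpτ (W.map Q.subtype) ⟨hAQ.trans hQM, hA, hAc⟩).2.2.2.1
  apply hH1
  rw [eq_bot_iff, ← h17]
  refine le_inf hH ?_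
  rw [Subgroup.le_centralizer_iff]
  exact hAQ.trans hQH

/-- **S1438, first half** (B&G Lemma 15.8): `C_M(H) = C_{M_σ}(H) X` with `X` a cyclic
`τ₂(M)`-subgroup -/
theorem s1438_a (hG : Cfsg.IsMinSimpleOddOrder G) (M : Subgroup G) (hM : IsCoatom M)
    (H : Subgroup G) (hH : H ≤ Cfsg.sigmaCore M) (hH1 : H ≠ ⊥)
    (hHall : (Nat.card H).Coprime (H.relIndex (Cfsg.sigmaCore M))) :
    ∃ X : Subgroup G, IsCyclic X ∧ (∀ p : ℕ, p.Prime → p ∣ Nat.card X → p ∈ Cfsg.tau2 M) ∧
      M ⊓ Subgroup.centralizer (H : Set G) =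
        (Cfsg.sigmaCore M ⊓ Subgroup.centralizer (H : Set G)) ⊔ X := by
  have hσM : Cfsg.sigmaCore M ≤ M := sigmaCore_le M
  have hhall := sigmaCore_hallOf hG hM
  obtain ⟨C, hCdef⟩ : ∃ C : Subgroup G, C = M ⊓ Subgroup.centralizer (H : Set G) := ⟨_, rfl⟩
  obtain ⟨N, hNdef⟩ : ∃ N : Subgroup G, N = Cfsg.sigmaCore M ⊓ Subgroup.centralizer (H : Set G) :=
    ⟨_, rfl⟩
  have hCM : C ≤ M := hCdef ▸ inf_le_left
  have hCH : C ≤ Subgroup.centralizer (H : Set G) := hCdef ▸ inf_le_right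
  have hNC : N ≤ C := by
    rw [hNdef, hCdef]
    exact inf_le_inf_right _ hσM
  have hNσ : N ≤ Cfsg.sigmaCore M := hNdef ▸ inf_le_left
  have hNeq : N = Cfsg.sigmaCore M ⊓ C := by
    rw [hNdef, hCdef, ← inf_assoc, inf_eq_left.mpr hσM]
  -- `N ⊴ C`
  have hnorm : C ≤ Subgroup.normalizer (N : Set G) := by
    intro c hc
    have hcM := le_normalizer_sigmaCore M (hCM hc)
    have hcH : c ∈ Subgroup.normalizer ((Subgroup.centralizer (H : Set G) : Subgroup G) : Set G) :=
      Subgroup.le_normalizer (hCH hc)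
    rw [Subgroup.mem_normalizer_iff] at hcM hcH ⊢
    intro n
    rw [hNdef, Subgroup.mem_inf, Subgroup.mem_inf, ← hcM n, ← hcH n]
  haveI hN'n : (N.subgroupOf C).Normal :=
    (Subgroup.normal_subgroupOf_iff_le_normalizer hNC).mpr hnorm
  -- coprimality
  have hidx : (N.subgroupOf C).index = N.relIndex C := rfl
  have hidx2 : N.relIndex C ∣ (Cfsg.sigmaCore M).relIndex M := by
    rw [hNeq, Subgroup.inf_relIndex_right]
    exact relIndex_dvd_relIndex_of_le_normalizer hσM (le_normalizer_sigmaCore M) hCM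
  have hcop : (Nat.card ↥(N.subgroupOf C)).Coprime (N.subgroupOf C).index := by
    rw [Cfsg.Agent.Lib.Helper7.card_subgroupOf_of_le hNC, hidx]
    apply Nat.coprime_of_dvd
    intro q hq hq1 hq2
    have hqσ : q ∈ Cfsg.sigma M := hhall.2.1 q hq (hq1.trans (Subgroup.card_dvd_of_le hNσ))
    exact hhall.2.2 q hq hqσ (hq2.trans hidx2)
  obtain ⟨X', hX'⟩ := Subgroup.exists_right_complement'_of_coprime hcop
  obtain ⟨X, hXdef⟩ : ∃ X : Subgroup G, X = X'.map C.subtype := ⟨_, rfl⟩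
  have hXC : X ≤ C := hXdef ▸ Subgroup.map_subtype_le X'
  have hXcard : Nat.card ↥X = N.relIndex C := by
    rw [hXdef, Subgroup.card_map_of_injective C.subtype_injective, ← hidx]
    have h1 := hX'.card_mul_card
    have h2 := (N.subgroupOf C).card_mul_index
    have hpos : 0 < Nat.card ↥(N.subgroupOf C) := Nat.card_pos
    exact Nat.eq_of_mul_eq_mul_left hpos (h1.trans h2.symm)
  have hsup : N ⊔ X = C := by
    have h1 := hX'.sup_eq_top
    have h2 := congrArg (Subgroup.map C.subtype) h1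
    rw [Subgroup.map_sup, Subgroup.map_subgroupOf_eq_of_le hNC, ← hXdef] at h2
    rw [h2, ← MonoidHom.range_eq_map, Subgroup.range_subtype]
  have hXσ : ∀ q : ℕ, q.Prime → q ∣ Nat.card ↥X → q ∉ Cfsg.sigma M := by
    intro q hq hqd hqσ
    rw [hXcard] at hqd
    exact hhall.2.2 q hq hqσ (hqd.trans hidx2)
  -- a Sylow subgroup of `H`
  obtain ⟨p, hpf, P, hPH, hPc⟩ := Cfsg.Agent.Lib.Helper4.BG13.exists_prime_card_le hH1
  haveI := hpf
  have hpH : p ∣ Nat.card ↥H := by rw [← hPc]; exact Subgroup.card_dvd_of_le hPH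
  obtain ⟨S, hS, -⟩ := exists_isSylowIn_ge (p := p) (Q := ⊥) (H := H) IsPGroup.of_bot bot_le
  have hSσ : IsSylowIn p S (Cfsg.sigmaCore M) := by
    apply Cfsg.Agent.Lib.Helper7.IsSylowIn.of_le_of_factorization hS hH
    have hmul : Nat.card ↥(Cfsg.sigmaCore M) = H.relIndex (Cfsg.sigmaCore M) * Nat.card ↥H :=
      Cfsg.Agent.H1.card_eq_relIndex_mul_card hH
    have hnd : ¬ p ∣ H.relIndex (Cfsg.sigmaCore M) := by
      intro hd
      have := Nat.dvd_gcd hpH hd
      rw [hHall] at this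
      exact hpf.out.one_lt.ne' (Nat.dvd_one.mp this)
    have hri0 : H.relIndex (Cfsg.sigmaCore M) ≠ 0 := by
      intro h0
      rw [h0, zero_mul] at hmul
      exact Nat.card_pos.ne' hmul
    rw [hmul, Nat.factorization_mul hri0 Nat.card_pos.ne', Finsupp.add_apply,
      Nat.factorization_eq_zero_of_not_dvd hnd, zero_add]
  have hS1 : S ≠ ⊥ := by
    intro h0
    have h2 := hS.2
    rw [h0, Subgroup.card_bot] at h2
    have hfac : (Nat.card ↥H).factorization p ≠ 0 := by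
      intro hz
      rcases (Nat.factorization_eq_zero_iff _ _).mp hz with h | h | h
      · exact h hpf.out
      · exact h hpH
      · exact Nat.card_pos.ne' h
    have : 1 < p ^ (Nat.card ↥H).factorization p := Nat.one_lt_pow hfac hpf.out.one_lt
    omega
  -- primes of `X` lie in `τ₂(M)`
  have hXτ : ∀ x ∈ X, ∀ r : ℕ, r.Prime → r ∣ orderOf x → r ∈ Cfsg.tau2 M := by
    intro x hx r hr hrd
    have hox0 : orderOf x ≠ 0 := (orderOf_pos x).ne'
    have hrX : r ∣ Nat.card ↥X := hrd.trans (Subgroup.orderOf_dvd_natCard X hx)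
    apply mem_tau2_of_centralizes_sylow hG hM hSσ hS1 (x := x ^ (orderOf x / r))
      (hCM (hXC (X.pow_mem hx _))) hr (orderOf_pow_orderOf_div hox0 hrd) (hXσ r hr hrX)
    intro s hs
    have hxs : x * s = s * x := by
      have h1 := hCH (hXC hx)
      rw [Subgroup.mem_centralizer_iff] at h1
      exact (h1 s (hPH.trans le_rfl |> fun _ => hS.1 hs)).symm
    exact ((Commute.pow_left (show Commute x s from hxs) _)).eq
  have hXτ' : ∀ r : ℕ, r.Prime → r ∣ Nat.card ↥X → r ∈ Cfsg.tau2 M := by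
    intro r hr hrd
    haveI : Fact r.Prime := ⟨hr⟩
    obtain ⟨x, hx⟩ := exists_prime_orderOf_dvd_card' r hrd
    have hx' : orderOf (x : G) = r := by rw [Subgroup.orderOf_coe, hx]
    exact hXτ x x.2 r hr (by rw [hx'])
  refine ⟨X, ?_, hXτ', ?_⟩
  swap
  · rw [← hCdef, ← hNdef, hsup]
  -- `X` is cyclic
  have hXM : X ≤ M := hXC.trans hCM
  have hXH : X ≤ Subgroup.centralizer (H : Set G) := hXC.trans hCH
  have hZ : IsZGroup ↥X := by
    constructor
    intro q hq Q
    haveI : Fact q.Prime := ⟨hq⟩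
    by_cases hd : q ∣ Nat.card ↥X
    · haveI : IsCyclic ↥((Q : Subgroup ↥X).map X.subtype) :=
        isCyclic_of_pgroup_centralizing hG hM hH hH1 (hXτ' q hq hd)
          ((Subgroup.map_subtype_le _).trans hXM) ((Subgroup.map_subtype_le _).trans hXH)
          (Q.isPGroup'.map _)
      exact isCyclic_of_injective
        ((Q : Subgroup ↥X).equivMapOfInjective X.subtype X.subtype_injective).toMonoidHom
        ((Q : Subgroup ↥X).equivMapOfInjective X.subtype X.subtype_injective).injective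
    · obtain ⟨n, hn⟩ := Q.isPGroup'.exists_card_eq
      rcases Nat.eq_zero_or_pos n with h0 | h0
      · rw [h0, pow_zero] at hn
        haveI : Subsingleton ↥(Q : Subgroup ↥X) := (Nat.card_eq_one_iff_unique.mp hn).1
        exact isCyclic_of_subsingleton
      · exfalso
        apply hd
        have h1 : q ∣ Nat.card ↥(Q : Subgroup ↥X) := by
          rw [hn]
          exact dvd_pow_self q h0.ne'
        exact dvd_trans h1 (Subgroup.card_subgroup_dvd_card _)
  by_cases hab : ∀ q : ℕ, q ∈ Cfsg.tau2 M → ∀ [Fact q.Prime],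
      ∃ S : Sylow q G, IsMulCommutative (S : Subgroup G)
  · -- `X` is abelian
    have hcopX : (Nat.card ↥X).Coprime (Nat.card ↥(Cfsg.sigmaCore M)) := by
      apply Nat.coprime_of_dvd
      intro q hq hq1 hq2
      exact hXσ q hq hq1 (hhall.2.1 q hq hq2)
    obtain ⟨E, hE, hXE⟩ := Cfsg.Agent.H1.BG14.exists_compl_ge hG hM hXM hcopX
    have h128 := Cfsg.Agent.H2.BG12.st128 hG
    have hcomm : ∀ a ∈ X, ∀ b ∈ X, a * b = b * a := by
      intro a ha b hb
      exact Cfsg.Agent.H2.BG12.fittingOf_compl_comm hG hM hE a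
        (Cfsg.Agent.H2.BG12.mem_fittingOf_of_tau2 hG h128 hM hE hab (hXE ha) (hXτ a ha)) b
        (Cfsg.Agent.H2.BG12.mem_fittingOf_of_tau2 hG h128 hM hE hab (hXE hb) (hXτ b hb))
    haveI : Group.IsNilpotent ↥X := by
      letI : CommGroup ↥X := { (inferInstance : Group ↥X) with
        mul_comm := fun a b => Subtype.ext (hcomm a a.2 b b.2) }
      exact CommGroup.isNilpotent
    infer_instance
  · push Not at hab
    obtain ⟨q, hqτ, hqf, hna⟩ := hab
    haveI := hqf
    obtain ⟨E, hE⟩ := Cfsg.Agent.Lib.helper3.BG12.exists_compl hG hM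
    obtain ⟨B, hBE, hBe, hBc⟩ := Cfsg.Agent.Lib.BG127H7.exists_elem_le_compl hE hqτ
    have hτeq : Cfsg.tau2 M = {q} := Cfsg.Agent.H2.BG12.st1419 hG M hM E hE q hqτ hna B ⟨hBE, hBe, hBc⟩
    have hXq : IsPGroup q ↥X := by
      apply Cfsg.Agent.H2.BG12.isPGroup_of_forall_prime_dvd
      intro x hx r hr hd
      have := hXτ x hx r hr hd
      rw [hτeq] at this
      exact this
    exact isCyclic_of_pgroup_centralizing hG hM hH hH1 hqτ hXM hXH hXq

end Cfsg.Agent.H2.BG15
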