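import Mathlib
import Cfsg.Agent.H2.BG15.A
import Cfsg.Agent.Lib.Lead.Carter
import Cfsg.Agent.Lib.Helper7.Kieler2
import Cfsg.Agent.Lib.Helper8.BG15A
import Cfsg.Agent.S1351
import Cfsg.Agent.S1352

/-!
# B&G Section 15 (helper2), part B: Lemma 15.9 (S1438, second half): `N_M(H)` controls fusion in a
Hall subgroup `H` of `M_σ`
-/

set_option autoImplicit false
set_option linter.unusedVariables false
set_option linter.unusedSectionVars false
set_option linter.style.haveILetI false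
set_option maxHeartbeats 1000000

open scoped commutatorElement Pointwise

namespace Cfsg.Agent.H2.BG15

open Cfsg Cfsg.Agent.Lib.Helper8.BGTen Cfsg.Agent.H2.BG11 Cfsg.Agent.H2.BG14
open Cfsg.Agent.Lib.Helper7 (IsSylowIn exists_isSylowIn_ge)

universe u

variable {G : Type u} [Group G] [Finite G]

omit [Finite G] in
theorem cj_eq_of_mem_normalizer {g : G} {N : Subgroup G}
    (h : g ∈ Subgroup.normalizer (N : Set G)) : cj g N = N := by
  ext w
  rw [mem_cj]
  have h' := Subgroup.inv_mem _ h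
  rw [Subgroup.mem_normalizer_iff] at h'
  rw [h' w, inv_inv]

omit [Finite G] in
theorem mem_normalizer_of_cj_eq {g : G} {N : Subgroup G} (h : cj g N = N) :
    g ∈ Subgroup.normalizer (N : Set G) := by
  rw [Subgroup.mem_normalizer_iff]
  intro w
  constructor
  · intro hw
    rw [← h]
    exact conj_mem_cj hw
  · intro hw
    rw [← h, mem_cj] at hw
    have e : g⁻¹ * (g * w * g⁻¹) * g = w := by group
    rwa [e] at hw

/-- a Hall subgroup of a nilpotent subgroup `D` is normal in `D` -/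
theorem le_normalizer_of_hall_nilpotent {D H : Subgroup G} (hD : Group.IsNilpotent ↥D)
    (hHD : H ≤ D) (hc : (Nat.card ↥H).Coprime (H.relIndex D)) :
    D ≤ Subgroup.normalizer (H : Set G) := by
  haveI := hD
  have hn : (H.subgroupOf D).Normal := by
    apply Cfsg.Agent.Lib.Lead.Carter.hall_normal_of_nilpotent
    rw [Cfsg.Agent.Lib.Helper7.card_subgroupOf_of_le hHD]
    exact hc
  exact (Subgroup.normal_subgroupOf_iff_le_normalizer hHD).mp hn

/-- **Frattini** for a Hall subgroup `H` of a solvable subgroup `N` normalized by `m` -/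
theorem exists_conj_eq_of_hall {N H : Subgroup G} (hsolv : Group.IsSolvable ↥N)
    (hHN : H ≤ N) (hc : (Nat.card ↥H).Coprime (H.relIndex N)) {m : G}
    (hm : m ∈ Subgroup.normalizer (N : Set G)) : ∃ s ∈ N, cj m H = cj s H := by
  obtain ⟨π, hπ⟩ : ∃ π : Set ℕ, π = {p | p ∣ Nat.card ↥H} := ⟨_, rfl⟩
  have h1 : Cfsg.IsPiHallOf π H N := by
    refine ⟨hHN, fun p hp hd => by rw [hπ]; exact hd, fun p hp hpπ hd => ?_⟩
    rw [hπ] at hpπ
    have := Nat.dvd_gcd hpπ hd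
    rw [hc] at this
    exact hp.one_lt.ne' (Nat.dvd_one.mp this)
  have h2 : Cfsg.IsPiHallOf π (cj m H) N := by
    have := Cfsg.Agent.H2.BG13.isPiHallOf_cj h1 m
    rwa [cj_eq_of_mem_normalizer hm] at this
  obtain ⟨g, hg, hgeq⟩ := Cfsg.Agent.H1.isPiHallOf_conj π H (cj m H) N hsolv h1 h2
  exact ⟨g, hg, hgeq⟩

/-- the structure of `M_σ` needed: nilpotent, or a normal Sylow `q`-subgroup with nilpotent
complements -/
def SigmaStruct (M : Subgroup G) : Prop :=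
  Group.IsNilpotent ↥(Cfsg.sigmaCore M) ∨
    ∃ (q : ℕ) (Q : Subgroup G), q.Prime ∧ Q ≤ Cfsg.sigmaCore M ∧
      M ≤ Subgroup.normalizer (Q : Set G) ∧ IsPGroup q ↥Q ∧ ¬ q ∣ Q.relIndex (Cfsg.sigmaCore M) ∧
      ∀ D : Subgroup G, Cfsg.IsComplIn Q D (Cfsg.sigmaCore M) → Group.IsNilpotent ↥D

/-- a Schur–Zassenhaus complement -/
theorem exists_complIn {N Q : Subgroup G} {q : ℕ} (hq : q.Prime) (hQN : Q ≤ N)
    (hn : N ≤ Subgroup.normalizer (Q : Set G)) (hQp : IsPGroup q ↥Q) (hQi : ¬ q ∣ Q.relIndex N) :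
    ∃ D : Subgroup G, Cfsg.IsComplIn Q D N := by
  haveI : Fact q.Prime := ⟨hq⟩
  haveI hQn : (Q.subgroupOf N).Normal := Subgroup.normal_subgroupOf_of_le_normalizer hn
  have hcop : (Nat.card ↥(Q.subgroupOf N)).Coprime (Q.subgroupOf N).index := by
    rw [Cfsg.Agent.Lib.Helper7.card_subgroupOf_of_le hQN]
    obtain ⟨k, hk⟩ := hQp.exists_card_eq
    rw [hk]
    exact Nat.Coprime.pow_left k ((Nat.Prime.coprime_iff_not_dvd hq).mpr hQi)
  obtain ⟨D₀, hD₀⟩ := Subgroup.exists_right_complement'_of_coprime hcop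
  obtain ⟨D, hDdef⟩ : ∃ D : Subgroup G, D = D₀.map N.subtype := ⟨_, rfl⟩
  have hDσ : D ≤ N := hDdef ▸ Subgroup.map_subtype_le _
  refine ⟨D, hQN, hDσ, ?_, ?_⟩
  · rw [eq_bot_iff]
    intro x hx
    obtain ⟨hxQ, hxD⟩ := Subgroup.mem_inf.mp hx
    rw [hDdef] at hxD
    obtain ⟨y, hy, rfl⟩ := hxD
    have : y ∈ Q.subgroupOf N ⊓ D₀ :=
      Subgroup.mem_inf.mpr ⟨Subgroup.mem_subgroupOf.mpr hxQ, hy⟩
    rw [hD₀.disjoint.eq_bot, Subgroup.mem_bot] at this
    rw [Subgroup.mem_bot, this]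
    rfl
  · intro m hm
    obtain ⟨⟨a, b⟩, hab⟩ := hD₀.2 ⟨m, hm⟩
    refine ⟨(a : ↥N), Subgroup.mem_subgroupOf.mp a.2, (b : ↥N), hDdef ▸ ⟨b, b.2, rfl⟩, ?_⟩
    have := congrArg Subtype.val hab
    exact this.symm

/-- the order of a complement -/
theorem card_of_complIn {N Q D : Subgroup G} (h : Cfsg.IsComplIn Q D N)
    (hn : D ≤ Subgroup.normalizer (Q : Set G)) :
    Nat.card ↥N = Nat.card ↥Q * Nat.card ↥D := by
  have hsup : Q ⊔ D = N := by
    apply le_antisymm (sup_le h.1 h.2.1)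
    intro m hm
    obtain ⟨a, ha, b, hb, rfl⟩ := h.2.2.2 m hm
    exact Subgroup.mul_mem _ (Subgroup.mem_sup_left ha) (Subgroup.mem_sup_right hb)
  have h1 := Cfsg.Agent.H1.card_sup_mul_card_inf D Q hn
  rw [sup_comm, hsup, inf_comm, h.2.2.1, Subgroup.card_bot, mul_one] at h1
  rw [h1, mul_comm]

/-- a Sylow subgroup of a Hall subgroup is a Sylow subgroup -/
theorem isSylowIn_of_hall {N H S : Subgroup G} {p : ℕ} [hp : Fact p.Prime] (hHN : H ≤ N)
    (hc : (Nat.card ↥H).Coprime (H.relIndex N)) (hpH : p ∣ Nat.card ↥H) (hS : IsSylowIn p S H) :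
    IsSylowIn p S N := by
  apply Cfsg.Agent.Lib.Helper7.IsSylowIn.of_le_of_factorization hS hHN
  have hmul : Nat.card ↥N = H.relIndex N * Nat.card ↥H :=
    Cfsg.Agent.H1.card_eq_relIndex_mul_card hHN
  have hnd : ¬ p ∣ H.relIndex N := by
    intro hd
    have := Nat.dvd_gcd hpH hd
    rw [hc] at this
    exact hp.out.one_lt.ne' (Nat.dvd_one.mp this)
  have hri0 : H.relIndex N ≠ 0 := by
    intro h0
    rw [h0, zero_mul] at hmul
    exact Nat.card_pos.ne' hmul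
  rw [hmul, Nat.factorization_mul hri0 Nat.card_pos.ne', Finsupp.add_apply,
    Nat.factorization_eq_zero_of_not_dvd hnd, zero_add]

omit [Finite G] in
theorem le_normalizer_sup {A B C : Subgroup G} (hB : A ≤ Subgroup.normalizer (B : Set G))
    (hC : A ≤ Subgroup.normalizer (C : Set G)) :
    A ≤ Subgroup.normalizer ((B ⊔ C : Subgroup G) : Set G) := by
  intro a ha
  apply mem_normalizer_of_cj_eq
  show (B ⊔ C).map _ = _
  rw [Subgroup.map_sup]
  have h1 : cj a B = B := cj_eq_of_mem_normalizer (hB ha)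
  have h2 : cj a C = C := cj_eq_of_mem_normalizer (hC ha)
  exact congrArg₂ (· ⊔ ·) h1 h2

/-- if every `M`-conjugate of `H` is an `N`-conjugate and `N ≤ N_G(H)`, then `M ≤ N_G(H)` -/
theorem le_normalizer_of_frattini (hG : Cfsg.IsMinSimpleOddOrder G) {M : Subgroup G}
    (hM : IsCoatom M) {H : Subgroup G} (hH : H ≤ Cfsg.sigmaCore M)
    (hHall : (Nat.card ↥H).Coprime (H.relIndex (Cfsg.sigmaCore M)))
    (hσ : Cfsg.sigmaCore M ≤ Subgroup.normalizer (H : Set G)) :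
    M ≤ Subgroup.normalizer (H : Set G) := by
  have hsolvM : Group.IsSolvable ↥M := hG.2.2.2 M hM.1
  have hsolv : Group.IsSolvable ↥(Cfsg.sigmaCore M) :=
    Group.isSolvable_of_isSolvable_injective (Subgroup.inclusion_injective (sigmaCore_le M))
  intro m hm
  obtain ⟨s, hs, hse⟩ := exists_conj_eq_of_hall hsolv hH hHall (le_normalizer_sigmaCore M hm)
  apply mem_normalizer_of_cj_eq
  rw [hse]
  exact cj_eq_of_mem_normalizer (hσ hs)

/-- **`N_M(H)` controls `M`-fusion in a Hall subgroup `H` of `M_σ`** -/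
theorem fusion_of_sigmaStruct (hG : Cfsg.IsMinSimpleOddOrder G) {M : Subgroup G} (hM : IsCoatom M)
    (hst : SigmaStruct M) {H : Subgroup G} (hH : H ≤ Cfsg.sigmaCore M)
    (hHall : (Nat.card ↥H).Coprime (H.relIndex (Cfsg.sigmaCore M))) {x m : G} (hx : x ∈ H)
    (hm : m ∈ M) (hy : m * x * m⁻¹ ∈ H) :
    ∃ n ∈ M ⊓ Subgroup.normalizer (H : Set G), n * x * n⁻¹ = m * x * m⁻¹ := by
  have hσM : Cfsg.sigmaCore M ≤ M := sigmaCore_le M
  have hnσ : M ≤ Subgroup.normalizer (Cfsg.sigmaCore M : Set G) := le_normalizer_sigmaCore M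
  have hsolvM : Group.IsSolvable ↥M := hG.2.2.2 M hM.1
  have hsolv : Group.IsSolvable ↥(Cfsg.sigmaCore M) :=
    Group.isSolvable_of_isSolvable_injective (Subgroup.inclusion_injective hσM)
  rcases hst with hnil | ⟨q, Q, hq, hQσ, hMQ, hQp, hQi, hDnil⟩
  · have hσN := le_normalizer_of_hall_nilpotent hnil hH hHall
    exact ⟨m, ⟨hm, le_normalizer_of_frattini hG hM hH hHall hσN hm⟩, rfl⟩
  haveI : Fact q.Prime := ⟨hq⟩
  obtain ⟨D₀, hcompl⟩ := exists_complIn hq hQσ (hσM.trans hMQ) hQp hQi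
  have hD₀nil := hDnil D₀ hcompl
  have hD₀σ : D₀ ≤ Cfsg.sigmaCore M := hcompl.2.1
  have hD₀Q : D₀ ≤ Subgroup.normalizer (Q : Set G) := (hD₀σ.trans hσM).trans hMQ
  have hcard := card_of_complIn hcompl hD₀Q
  by_cases hqH : q ∣ Nat.card ↥H
  · -- `Q ≤ H`, and `H ⊴ M`
    obtain ⟨S, hS, -⟩ := exists_isSylowIn_ge (p := q) (Q := ⊥) (H := H) IsPGroup.of_bot bot_le
    have hSσ := isSylowIn_of_hall hH hHall hqH hS
    have hQS : Q ≤ S := Cfsg.Agent.Lib.Helper7.IsSylowIn.normal_le hSσ hQσ (hσM.trans hMQ) hQp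
    have hQH : Q ≤ H := hQS.trans hS.1
    obtain ⟨H₀, hH₀def⟩ : ∃ H₀ : Subgroup G, H₀ = H ⊓ D₀ := ⟨_, rfl⟩
    have hH₀H : H₀ ≤ H := hH₀def ▸ inf_le_left
    have hH₀D : H₀ ≤ D₀ := hH₀def ▸ inf_le_right
    have hcomplH : Cfsg.IsComplIn Q H₀ H := by
      refine ⟨hQH, hH₀H, ?_, ?_⟩
      · rw [eq_bot_iff, ← hcompl.2.2.1]
        exact inf_le_inf_left _ hH₀D
      · intro h hh
        obtain ⟨a, ha, b, hb, hab⟩ := hcompl.2.2.2 h (hH hh)
        refine ⟨a, ha, b, ?_, hab⟩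
        rw [hH₀def]
        refine Subgroup.mem_inf.mpr ⟨?_, hb⟩
        have : b = a⁻¹ * h := by rw [hab]; group
        rw [this]
        exact Subgroup.mul_mem _ (Subgroup.inv_mem _ (hQH ha)) hh
    have hcardH := card_of_complIn hcomplH (hH₀D.trans hD₀Q)
    have hsupH : Q ⊔ H₀ = H := by
      apply le_antisymm (sup_le hQH hH₀H)
      intro h hh
      obtain ⟨a, ha, b, hb, rfl⟩ := hcomplH.2.2.2 h hh
      exact Subgroup.mul_mem _ (Subgroup.mem_sup_left ha) (Subgroup.mem_sup_right hb)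
    have hri : H₀.relIndex D₀ = H.relIndex (Cfsg.sigmaCore M) := by
      have e1 := Cfsg.Agent.H1.card_eq_relIndex_mul_card hH
      have e2 := Cfsg.Agent.H1.card_eq_relIndex_mul_card hH₀D
      rw [hcard, e2, hcardH] at e1
      have hpos : 0 < Nat.card ↥Q * Nat.card ↥H₀ := Nat.mul_pos Nat.card_pos Nat.card_pos
      have e3 : H₀.relIndex D₀ * (Nat.card ↥Q * Nat.card ↥H₀) =
          H.relIndex (Cfsg.sigmaCore M) * (Nat.card ↥Q * Nat.card ↥H₀) := by
        rw [← e1]; ring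
      exact Nat.eq_of_mul_eq_mul_right hpos e3
    have hcopH₀ : (Nat.card ↥H₀).Coprime (H₀.relIndex D₀) := by
      rw [hri]
      exact Nat.Coprime.coprime_dvd_left (Subgroup.card_dvd_of_le hH₀H) hHall
    have hD₀H₀ := le_normalizer_of_hall_nilpotent hD₀nil hH₀D hcopH₀
    have hD₀H : D₀ ≤ Subgroup.normalizer (H : Set G) := by
      have := le_normalizer_sup hD₀Q hD₀H₀
      rwa [hsupH] at this
    have hσN : Cfsg.sigmaCore M ≤ Subgroup.normalizer (H : Set G) := by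
      intro t ht
      obtain ⟨a, ha, b, hb, rfl⟩ := hcompl.2.2.2 t ht
      exact Subgroup.mul_mem _ (Subgroup.le_normalizer (hQH ha)) (hD₀H hb)
    exact ⟨m, ⟨hm, le_normalizer_of_frattini hG hM hH hHall hσN hm⟩, rfl⟩
  · -- `H` lies in a complement `D'` of `Q`
    obtain ⟨π, hπ⟩ : ∃ π : Set ℕ, π = {p | p ≠ q} := ⟨_, rfl⟩
    have hQc : ∃ k, Nat.card ↥Q = q ^ k := hQp.exists_card_eq
    obtain ⟨k, hk⟩ := hQc
    have hD₀Hall : Cfsg.IsPiHallOf π D₀ (Cfsg.sigmaCore M) := by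
      refine ⟨hD₀σ, ?_, ?_⟩
      · intro p hp hpd
        rw [hπ]
        rintro rfl
        apply hQi
        have e1 := Cfsg.Agent.H1.card_eq_relIndex_mul_card hQσ
        rw [hcard] at e1
        have : Q.relIndex (Cfsg.sigmaCore M) = Nat.card ↥D₀ := by
          have hpos : 0 < Nat.card ↥Q := Nat.card_pos
          rw [mul_comm] at e1
          exact (Nat.eq_of_mul_eq_mul_right hpos e1).symm
        rw [this]; exact hpd
      · intro p hp hpπ hpd
        rw [hπ] at hpπ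
        apply hpπ
        have e1 := Cfsg.Agent.H1.card_eq_relIndex_mul_card hD₀σ
        rw [hcard] at e1
        have : D₀.relIndex (Cfsg.sigmaCore M) = Nat.card ↥Q := by
          have hpos : 0 < Nat.card ↥D₀ := Nat.card_pos
          exact (Nat.eq_of_mul_eq_mul_right hpos e1).symm
        rw [this, hk] at hpd
        exact (Nat.prime_dvd_prime_iff_eq hp hq).mp (hp.dvd_of_dvd_pow hpd)
    have hHπ : Cfsg.Agent.H1.PiNum π (Nat.card ↥H) := by
      intro p hp hpd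
      rw [hπ]
      rintro rfl
      exact hqH hpd
    obtain ⟨s, hs, hHs⟩ := Cfsg.Agent.H1.isPiHallOf_dominance π D₀ (Cfsg.sigmaCore M) H hsolv
      hD₀Hall hH hHπ
    obtain ⟨D', hD'def⟩ : ∃ D' : Subgroup G, D' = cj s D₀ := ⟨_, rfl⟩
    have hHD' : H ≤ D' := hD'def ▸ hHs
    have hD'nil : Group.IsNilpotent ↥D' := by
      rw [hD'def]
      exact (Group.isNilpotent_congr (MulEquiv.subgroupMap (MulAut.conj s) D₀)).mp hD₀nil
    have hD'σ : D' ≤ Cfsg.sigmaCore M := by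
      rw [hD'def, ← cj_eq_of_mem_normalizer (hnσ (hσM hs))]
      exact cj_mono s hD₀σ
    have hcopD' : (Nat.card ↥H).Coprime (H.relIndex D') := by
      have := Subgroup.relIndex_mul_relIndex H D' (Cfsg.sigmaCore M) hHD' hD'σ
      exact Nat.Coprime.coprime_dvd_right ⟨_, this.symm⟩ hHall
    have hD'H := le_normalizer_of_hall_nilpotent hD'nil hHD' hcopD'
    -- Frattini
    obtain ⟨s', hs', hse⟩ := exists_conj_eq_of_hall hsolv hH hHall (hnσ hm)
    -- `s' = u d`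
    have hconj : s⁻¹ * s' * s ∈ Cfsg.sigmaCore M :=
      Subgroup.mul_mem _ (Subgroup.mul_mem _ (Subgroup.inv_mem _ hs) hs') hs
    obtain ⟨a, ha, b, hb, hab⟩ := hcompl.2.2.2 _ hconj
    obtain ⟨u, hudef⟩ : ∃ u : G, u = s * a * s⁻¹ := ⟨_, rfl⟩
    obtain ⟨d, hddef⟩ : ∃ d : G, d = s * b * s⁻¹ := ⟨_, rfl⟩
    have huQ : u ∈ Q := by
      rw [hudef]
      exact (Subgroup.mem_normalizer_iff.mp (hMQ (hσM hs)) a).mp ha
    have hdD' : d ∈ D' := by
      rw [hddef, hD'def]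
      exact conj_mem_cj hb
    have hs'e : s' = u * d := by
      rw [hudef, hddef]
      have : s' = s * (s⁻¹ * s' * s) * s⁻¹ := by group
      rw [this, hab]; group
    obtain ⟨n₀, hn₀def⟩ : ∃ n₀ : G, n₀ = s'⁻¹ * m := ⟨_, rfl⟩
    have hn₀M : n₀ ∈ M := by
      rw [hn₀def]
      exact Subgroup.mul_mem _ (Subgroup.inv_mem _ (hσM hs')) hm
    have hn₀N : n₀ ∈ Subgroup.normalizer (H : Set G) := by
      apply mem_normalizer_of_cj_eq
      rw [hn₀def, cj_mul, hse, cj_inv_cj]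
    have hx' : n₀ * x * n₀⁻¹ ∈ H := (Subgroup.mem_normalizer_iff.mp hn₀N x).mp hx
    have hx'' : d * (n₀ * x * n₀⁻¹) * d⁻¹ ∈ H :=
      (Subgroup.mem_normalizer_iff.mp (hD'H hdD') _).mp hx'
    obtain ⟨x'', hx''def⟩ : ∃ x'' : G, x'' = d * (n₀ * x * n₀⁻¹) * d⁻¹ := ⟨_, rfl⟩
    rw [← hx''def] at hx''
    have hye : m * x * m⁻¹ = u * x'' * u⁻¹ := by
      rw [hx''def, hn₀def, hs'e]; group
    have hQH : Q ⊓ H = ⊥ := by
      apply (Subgroup.disjoint_of_coprime_natCard _).eq_bot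
      rw [hk]
      exact Nat.Coprime.pow_left k ((Nat.Prime.coprime_iff_not_dvd hq).mpr hqH)
    have hmem : m * x * m⁻¹ * x''⁻¹ ∈ Q ⊓ H := by
      refine Subgroup.mem_inf.mpr ⟨?_, Subgroup.mul_mem _ hy (Subgroup.inv_mem _ hx'')⟩
      have e : m * x * m⁻¹ * x''⁻¹ = u * (x'' * u⁻¹ * x''⁻¹) := by rw [hye]; group
      rw [e]
      refine Subgroup.mul_mem _ huQ ?_
      exact (Subgroup.mem_normalizer_iff.mp (hMQ (hσM (hH hx''))) u⁻¹).mp (Subgroup.inv_mem _ huQ)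
    rw [hQH, Subgroup.mem_bot] at hmem
    have hyx : m * x * m⁻¹ = x'' := by
      have : m * x * m⁻¹ = m * x * m⁻¹ * x''⁻¹ * x'' := by group
      rw [this, hmem, one_mul]
    refine ⟨d * n₀, ⟨Subgroup.mul_mem _ (hσM (hD'σ hdD')) hn₀M,
      Subgroup.mul_mem _ (hD'H hdD') hn₀N⟩, ?_⟩
    rw [hyx, hx''def]; group

end Cfsg.Agent.H2.BG15
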