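import Mathlib
import Cfsg.Agent.H2.BG15.B
import Cfsg.Agent.Lib.helper3.BG12D

/-!
# B&G Section 15 (helper2), part C: S1438 (Lemmas 15.8, 15.9) and S1384 (nilpotent Hall subgroups,
B&G Corollary 15.10 + Lemma 15.9), assembled from (a weak form of) S1437
-/

set_option autoImplicit false
set_option linter.unusedVariables false
set_option linter.unusedSectionVars false
set_option linter.style.haveILetI false
set_option maxHeartbeats 1000000

open scoped commutatorElement Pointwise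

namespace Cfsg.Agent.H2.BG15

open Cfsg Cfsg.Agent.Lib.Helper8.BGTen Cfsg.Agent.H2.BG11 Cfsg.Agent.H2.BG14
open Cfsg.Agent.Lib.Helper7 (IsSylowIn exists_isSylowIn_ge)

universe u

variable {G : Type u} [Group G] [Finite G]

/-- the structure of `M_σ` from (the weak form of) S1437 -/
theorem sigmaStruct_of (hG : Cfsg.IsMinSimpleOddOrder G)
    (h37 : Cfsg.Agent.Lib.Helper8.BG15.Hyp1437w G) {M : Subgroup G} (hM : IsCoatom M) :
    SigmaStruct M := by
  by_cases hnil : Group.IsNilpotent ↥(Cfsg.sigmaCore M)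
  · exact Or.inl hnil
  right
  obtain ⟨⟨K, hK⟩, hcyc⟩ := Cfsg.Agent.S1351.result hG M hM
  have hKc := hcyc K hK
  obtain ⟨U, hKU⟩ := (Cfsg.Agent.S1352.result hG M hM K hKc hK).1
  have hne : Cfsg.fittingHallOf M ≠ Cfsg.sigmaCore M := by
    intro h
    apply hnil
    rw [← h]
    exact Cfsg.Agent.Lib.Helper4.TypeP.fittingHallOf_nilpotent M
  obtain ⟨-, q, hq, -, Q, hQF, hMQ, hQp, hQi, hDnil⟩ := h37 M hM K U hKU hne
  exact ⟨q, Q, hq, hQF.trans (Cfsg.Agent.Lib.Helper8.BG15.fittingHallOf_le_sigmaCore hG hM),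
    hMQ, hQp, hQi, hDnil⟩

/-- **S1438, second half** (B&G Lemma 15.9) -/
theorem s1438_b (hG : Cfsg.IsMinSimpleOddOrder G) {M : Subgroup G} (hM : IsCoatom M)
    (hst : SigmaStruct M) {H : Subgroup G} (hH : H ≤ Cfsg.sigmaCore M)
    (hHall : (Nat.card ↥H).Coprime (H.relIndex (Cfsg.sigmaCore M))) :
    ∀ x ∈ H, ∀ g : G, g * x * g⁻¹ ∈ H →
      ∃ n ∈ M ⊓ Subgroup.normalizer (H : Set G), n * x * n⁻¹ = g * x * g⁻¹ := by
  intro x hx g hg
  by_cases hx1 : x = 1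
  · refine ⟨1, Subgroup.one_mem _, ?_⟩
    rw [hx1]; group
  have hxσ : x ∈ Cfsg.sigmaCore M := hH hx
  have hw : (g⁻¹)⁻¹ * x * g⁻¹ ∈ M := by
    rw [inv_inv]
    exact sigmaCore_le M (hH hg)
  obtain ⟨κ, hκ, m', hm', hge⟩ := exists_mul_of_conj_mem hG hM hxσ hx1 hw
  rw [Subgroup.mem_centralizer_singleton_iff] at hκ
  have hge' : g = m'⁻¹ * κ⁻¹ := by
    have : g = (g⁻¹)⁻¹ := (inv_inv g).symm
    rw [this, hge]; group
  have hconj : g * x * g⁻¹ = m'⁻¹ * x * m'⁻¹⁻¹ := by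
    rw [hge']
    have h1 : κ⁻¹ * x * κ = x := by
      have : κ⁻¹ * x * κ = κ⁻¹ * (x * κ) := by group
      rw [this, ← hκ]; group
    calc m'⁻¹ * κ⁻¹ * x * (m'⁻¹ * κ⁻¹)⁻¹ = m'⁻¹ * (κ⁻¹ * x * κ) * m'⁻¹⁻¹ := by group
      _ = m'⁻¹ * x * m'⁻¹⁻¹ := by rw [h1]
  rw [hconj] at hg ⊢
  exact fusion_of_sigmaStruct hG hM hst hH hHall hx (Subgroup.inv_mem _ hm') hg

/-- **S1438** from (the weak form of) S1437 -/
theorem s1438_of (hG : Cfsg.IsMinSimpleOddOrder G) (h37 : Cfsg.Agent.Lib.Helper8.BG15.Hyp1437w G)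
    (M : Subgroup G) (hM : IsCoatom M) (H : Subgroup G) (hH : H ≤ Cfsg.sigmaCore M) (hH1 : H ≠ ⊥)
    (hHall : (Nat.card H).Coprime (H.relIndex (Cfsg.sigmaCore M))) :
    (∃ X : Subgroup G, IsCyclic X ∧ (∀ p : ℕ, p.Prime → p ∣ Nat.card X → p ∈ Cfsg.tau2 M) ∧
        M ⊓ Subgroup.centralizer (H : Set G) = (Cfsg.sigmaCore M ⊓ Subgroup.centralizer (H : Set G)) ⊔ X) ∧
      ∀ x ∈ H, ∀ g : G, g * x * g⁻¹ ∈ H → ∃ n ∈ M ⊓ Subgroup.normalizer (H : Set G), n * x * n⁻¹ = g * x * g⁻¹ :=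
  ⟨s1438_a hG M hM H hH hH1 hHall, s1438_b hG hM (sigmaStruct_of hG h37 hM) hH hHall⟩

/-! ### nilpotent Hall subgroups of `G` -/

/-- **B&G Corollary 15.10**: a nontrivial nilpotent Hall subgroup of `G` lies in `M_σ` for some
maximal subgroup `M` -/
theorem exists_le_sigmaCore_of_nilpotent_hall (hG : Cfsg.IsMinSimpleOddOrder G) {H : Subgroup G}
    (hHn : Group.IsNilpotent ↥H) (hHall : (Nat.card ↥H).Coprime H.index) (hH1 : H ≠ ⊥) :
    ∃ M : Subgroup G, IsCoatom M ∧ H ≤ Cfsg.sigmaCore M := by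
  have hidx : ∀ K : Subgroup G, K.relIndex ⊤ = K.index := fun K => Subgroup.relIndex_top_right K
  have hHallT : (Nat.card ↥H).Coprime (H.relIndex ⊤) := by rw [hidx]; exact hHall
  -- Sylow subgroups of `H` are normal in `H` and Sylow in `G`
  have key : ∀ (q : ℕ) [Fact q.Prime], q ∣ Nat.card ↥H → ∀ Q : Subgroup G, IsSylowIn q Q H →
      H ≤ Subgroup.normalizer (Q : Set G) ∧ IsSylowIn q Q ⊤ ∧ Q ≠ ⊥ := by
    intro q hqf hqd Q hQ
    refine ⟨?_, isSylowIn_of_hall le_top hHallT hqd hQ, ?_⟩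
    · apply le_normalizer_of_hall_nilpotent hHn hQ.1
      obtain ⟨k, hk⟩ := hQ.isPGroup.exists_card_eq
      rw [hk]
      exact Nat.Coprime.pow_left k ((Nat.Prime.coprime_iff_not_dvd hqf.out).mpr
        (Cfsg.Agent.Lib.Helper7.IsSylowIn.not_dvd_relIndex hQ))
    · intro h0
      have h2 := hQ.2
      rw [h0, Subgroup.card_bot] at h2
      have hfac : (Nat.card ↥H).factorization q ≠ 0 := by
        intro hz
        rcases (Nat.factorization_eq_zero_iff _ _).mp hz with h | h | h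
        · exact h hqf.out
        · exact h hqd
        · exact Nat.card_pos.ne' h
      have : 1 < q ^ (Nat.card ↥H).factorization q := Nat.one_lt_pow hfac hqf.out.one_lt
      omega
  obtain ⟨p, hpf, P₀, hP₀H, hP₀c⟩ := Cfsg.Agent.Lib.Helper4.BG13.exists_prime_card_le hH1
  haveI := hpf
  have hpH : p ∣ Nat.card ↥H := by rw [← hP₀c]; exact Subgroup.card_dvd_of_le hP₀H
  obtain ⟨P, hP, -⟩ := exists_isSylowIn_ge (p := p) (Q := ⊥) (H := H) IsPGroup.of_bot bot_le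
  obtain ⟨hHP, hPG, hP1⟩ := key p hpH P hP
  have hPp : IsPGroup p ↥P := hP.isPGroup
  have hPsolv : Group.IsSolvable ↥P := by
    haveI := hPp.isNilpotent
    infer_instance
  have hNP : Subgroup.normalizer (P : Set G) ≠ ⊤ :=
    Cfsg.Agent.Lib.Helper4.ThreeStep.normalizer_ne_top hG.2 P hP1 hPsolv
  obtain ⟨M, hM, hNM⟩ := Cfsg.Agent.H2.BGU.exists_coatom_ge hNP
  have hHM : H ≤ M := hHP.trans hNM
  have hPM : P ≤ M := hP.1.trans hHM
  have hPMs : IsSylowIn p P M := Cfsg.Agent.Lib.Helper7.IsSylowIn.of_le_of_le hPG hPM le_top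
  have hpσ : p ∈ Cfsg.sigma M := by
    obtain ⟨R, hR⟩ := Cfsg.Agent.Lib.Helper7.IsSylowIn.exists_sylow_map hPMs
    refine ⟨hpf.out, hpH.trans (Subgroup.card_dvd_of_le hHM), R, ?_⟩
    rw [hR]; exact hNM
  have hPσ : P ≤ Cfsg.sigmaCore M := le_sigmaCore_of_pgroup hG hM hpσ hPM hPp
  have hPσs : IsSylowIn p P (Cfsg.sigmaCore M) :=
    Cfsg.Agent.Lib.Helper7.IsSylowIn.of_le_of_le hPG hPσ le_top
  -- every prime of `|H|` lies in `σ(M)`
  have hprimes : ∀ q : ℕ, q.Prime → q ∣ Nat.card ↥H → q ∈ Cfsg.sigma M := by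
    intro q hq hqd
    by_contra hqσ
    haveI : Fact q.Prime := ⟨hq⟩
    obtain ⟨Q, hQ, -⟩ := exists_isSylowIn_ge (p := q) (Q := ⊥) (H := H) IsPGroup.of_bot bot_le
    obtain ⟨hHQ, hQG, hQ1⟩ := key q hqd Q hQ
    have hQM : Q ≤ M := hQ.1.trans hHM
    have hQq : IsPGroup q ↥Q := hQ.isPGroup
    have hqp : q ≠ p := by
      rintro rfl
      exact hqσ hpσ
    have hPQ : P ⊓ Q = ⊥ := by
      apply (Subgroup.disjoint_of_coprime_natCard _).eq_bot
      obtain ⟨a, ha⟩ := hPp.exists_card_eq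
      obtain ⟨b, hb⟩ := hQq.exists_card_eq
      rw [ha, hb]
      exact Nat.Coprime.pow _ _ ((Nat.coprime_primes hpf.out hq).mpr (Ne.symm hqp))
    -- `P` and `Q` commute
    have hcomm : ∀ a ∈ P, ∀ b ∈ Q, b * a = a * b := by
      intro a ha b hb
      have h1 : b * a * b⁻¹ ∈ P :=
        (Subgroup.mem_normalizer_iff.mp (hHP (hQ.1 hb)) a).mp ha
      have h2 : a * b⁻¹ * a⁻¹ ∈ Q :=
        (Subgroup.mem_normalizer_iff.mp (hHQ (hP.1 ha)) b⁻¹).mp (Subgroup.inv_mem _ hb)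
      have hmem : b * a * b⁻¹ * a⁻¹ ∈ P ⊓ Q := by
        refine Subgroup.mem_inf.mpr ⟨Subgroup.mul_mem _ h1 (Subgroup.inv_mem _ ha), ?_⟩
        have e : b * a * b⁻¹ * a⁻¹ = b * (a * b⁻¹ * a⁻¹) := by group
        rw [e]
        exact Subgroup.mul_mem _ hb h2
      rw [hPQ, Subgroup.mem_bot] at hmem
      have : b * a = b * a * b⁻¹ * a⁻¹ * (a * b) := by group
      rw [this, hmem, one_mul]
    -- an element of order `q` of `Q`
    have hqQ : q ∣ Nat.card ↥Q := by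
      obtain ⟨b, hb⟩ := hQq.exists_card_eq
      rcases Nat.eq_zero_or_pos b with h0 | h0
      · exfalso
        rw [h0, pow_zero] at hb
        exact hQ1 (Subgroup.card_eq_one.mp hb)
      · rw [hb]; exact dvd_pow_self q h0.ne'
    obtain ⟨x₀, hx₀⟩ := exists_prime_orderOf_dvd_card' q hqQ
    have hx₀' : orderOf (x₀ : G) = q := by rw [Subgroup.orderOf_coe, hx₀]
    have hqτ : q ∈ Cfsg.tau2 M :=
      mem_tau2_of_centralizes_sylow hG hM hPσs hP1 (hQM x₀.2) hq hx₀' hqσ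
        (fun s hs => hcomm s hs x₀ x₀.2)
    have hQC : Q ≤ Subgroup.centralizer (P : Set G) := by
      intro b hb
      rw [Subgroup.mem_centralizer_iff]
      intro a ha
      exact (hcomm a ha b hb).symm
    have hQcyc : IsCyclic ↥Q := isCyclic_of_pgroup_centralizing hG hM hPσ hP1 hqτ hQM hQC hQq
    have hQMs : IsSylowIn q Q M := Cfsg.Agent.Lib.Helper7.IsSylowIn.of_le_of_le hQG hQM le_top
    exact hqτ.2.2.2 (Cfsg.Agent.Lib.helper3.BG12.pRankLE_one_of_cyclic_sylow hQMs hQcyc)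
  refine ⟨M, hM, ?_⟩
  intro h hh
  apply Cfsg.Agent.H2.BG12.mem_of_primary_parts (orderOf h) h rfl
  intro q hq hqd v hv hvq
  haveI : Fact q.Prime := ⟨hq⟩
  have hqσ := hprimes q hq (hqd.trans (Subgroup.orderOf_dvd_natCard H hh))
  have hvM : Subgroup.zpowers v ≤ M := by
    rw [Subgroup.zpowers_le]
    exact hHM ((Subgroup.zpowers_le.mpr hh) hv)
  exact le_sigmaCore_of_pgroup hG hM hqσ hvM hvq (Subgroup.mem_zpowers v)

/-- **S1384** from (the weak form of) S1437 -/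
theorem s1384_of (hG : Cfsg.IsMinSimpleOddOrder G) (h37 : Cfsg.Agent.Lib.Helper8.BG15.Hyp1437w G)
    (H : Subgroup G) (hHn : Group.IsNilpotent H) (hHall : (Nat.card H).Coprime H.index) :
    ∀ x ∈ H, ∀ g : G, g * x * g⁻¹ ∈ H →
      ∃ n ∈ Subgroup.normalizer (H : Set G), n * x * n⁻¹ = g * x * g⁻¹ := by
  intro x hx g hg
  by_cases hH1 : H = ⊥
  · refine ⟨1, Subgroup.one_mem _, ?_⟩
    rw [hH1, Subgroup.mem_bot] at hx
    rw [hx]; group
  obtain ⟨M, hM, hHσ⟩ := exists_le_sigmaCore_of_nilpotent_hall hG hHn hHall hH1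
  have hc : (Nat.card ↥H).Coprime (H.relIndex (Cfsg.sigmaCore M)) := by
    have := Subgroup.relIndex_mul_index hHσ
    exact Nat.Coprime.coprime_dvd_right ⟨_, this.symm⟩ hHall
  obtain ⟨n, hn, hne⟩ := s1438_b hG hM (sigmaStruct_of hG h37 hM) hHσ hc x hx g hg
  exact ⟨n, (Subgroup.mem_inf.mp hn).2, hne⟩

end Cfsg.Agent.H2.BG15
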