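import Mathlib
import Cfsg.Agent.H2.BG15.C
import Cfsg.Agent.S1437

/-!
# B&G Section 15 (helper2), part D: the weak form of S1437 used by S1438 / S1384 / S1355
-/

set_option autoImplicit false
set_option linter.unusedVariables false

namespace Cfsg.Agent.H2.BG15

universe u

variable {G : Type u} [Group G] [Finite G]

/-- the weak form of S1437, from the landed S1437 -/
theorem hyp1437w (hG : Cfsg.IsMinSimpleOddOrder G) : Cfsg.Agent.Lib.Helper8.BG15.Hyp1437w G := by
  intro M hM K U hKU hne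
  obtain ⟨-, hσ, -, hq, hqd, -, Q, hQF, hMQ, hQp, hQi, hD⟩ :=
    Cfsg.Agent.S1437.result hG M hM K U hKU hne
  exact ⟨hσ, _, hq, hqd, Q, hQF, hMQ, hQp, hQi, fun D hc => (hD D hc).1⟩

end Cfsg.Agent.H2.BG15
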